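import Cfsg.Agent.H356.CY.MultU
import Cfsg.Agent.H661.OC.RowFin
import Cfsg.Agent.H776.CY.Congr
import Cfsg.Agent.S4613
import Cfsg.Agent.OddHalf.Known

/-!
# S4829: the row of `PSU_N(q)`, `N ≥ 3`, in its own odd characteristic (helper356)

* `exists_t` : an element `t` of the torus of `SU` with `∏ i, eta (a i t) = -1`;
* `rowA_psu`, `rowForA_psu`.
-/

set_option autoImplicit false
set_option linter.unusedSectionVars false
set_option linter.unusedSimpArgs false

namespace Cfsg.Agent.H356.CY

open CoxeterSystem Cfsg.Agent.ChevalleyStructure.CoxeterGeom Cfsg.Agent.Tits.Roots Cfsg.Agent.Tits.Core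
  Cfsg.Agent.Nodes.Comb Cfsg.Agent.Nodes.Reps Cfsg.Agent.Nodes.BNOf Cfsg.Agent.Nodes.RGDLib
  Cfsg.Agent.Nodes.Bruhat Cfsg.Agent.H148.GG Cfsg.Agent.H356.AQ
open Matrix Cfsg Cfsg.Agent.H356.TA Cfsg.Agent.H356.TU Cfsg.Agent.LieClassical.HermBasic
  Cfsg.Agent.LieClassical.HermSiegel
open Cfsg.Agent.TitsThree Cfsg.Agent.TitsThree.Siegel Cfsg.Agent.TitsThree.SiegelGen
  Cfsg.Agent.TitsThree.WittFrame Cfsg.Agent.TitsThree.WBridge Cfsg.Agent.TitsThree.WittWeyl
  Cfsg.Agent.TitsThree.FrameCN Cfsg.Agent.TitsThree.KSideU Cfsg.Agent.TitsThree.KSideUDesc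
open Cfsg.Agent.TitsThree.KSideA Cfsg.Agent.Nodes.RGDTypeA
open Cfsg.Agent.Nodes.RGDAllP Cfsg.Agent.Nodes.WittU Cfsg.Agent.Nodes.OppDec
open Cfsg.Agent.Nodes.TypeC (isCartan)
open Cfsg.Agent.H712.OC (eta eta_isSquare eta_neg)
open Cfsg.Agent.H770.CY

section

variable {F : Type*} [Field F] [Fintype F] {q : ℕ} {hF : Fintype.card F = q ^ 2} {n : ℕ}

theorem odd_q (hF : Fintype.card F = q ^ 2) (h2 : ringChar F ≠ 2) : q % 2 = 1 := by
  have h1 := FiniteField.odd_card_of_char_ne_two h2
  rw [hF] at h1
  rcases Nat.mod_two_eq_zero_or_one q with h | h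
  · exfalso
    have h3 : 2 ∣ q := Nat.dvd_of_mod_eq_zero h
    have h4 : 2 ∣ q ^ 2 := h3.trans (dvd_pow_self q two_ne_zero)
    omega
  · exact h

theorem odd_card_Ki (h2 : ringChar F ≠ 2) (i : Fin ((n + 1) / 2)) : Odd (Nat.card (Ki hF n i)) := by
  have h1 := AddSubgroup.card_addSubgroup_dvd_card ((Ki hF n i).toSubring.toAddSubgroup)
  have h3 := FiniteField.odd_card_of_char_ne_two h2
  rw [← Nat.card_eq_fintype_card] at h3
  exact Odd.of_dvd_nat (Nat.odd_iff.2 h3) h1

theorem pow_qq (hF : Fintype.card F = q ^ 2) (ν : F) : (ν ^ q) ^ q = ν := by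
  rw [← pow_mul, ← sq, ← hF, FiniteField.pow_card]

/-- a diagonal element with determinant one -/
theorem mem_iota_of_diag {g : GJ hF n} (hg : g ∈ TG hF n) (h : ∏ x, g.1.1 x x = 1) : ∃ s, iota s = g := by
  refine mem_range_iota ?_
  have e : g.1.1 = diagonal fun x => g.1.1 x x := by
    ext x y
    by_cases hxy : x = y
    · rw [hxy, diagonal_apply_eq]
    · rw [diagonal_apply_ne _ hxy, hg x y hxy]
  rw [e, det_diagonal]
  exact h

/-- squares in the field of the simple root `i` -/
theorem eta_one {i : Fin ((n + 1) / 2)} (a : (Ki hF n i)ˣ) (b : F) (hb : b ∈ Ki hF n i)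
    (h : ((a : Ki hF n i) : F) = b * b) : eta (Ki hF n i) a = 1 :=
  eta_isSquare ⟨⟨b, hb⟩, Subtype.ext h⟩

theorem eta_neg_one (h2 : ringChar F ≠ 2) {i : Fin ((n + 1) / 2)} (a : (Ki hF n i)ˣ)
    (h : ∀ b : F, b ∈ Ki hF n i → ((a : Ki hF n i) : F) ≠ b * b) : eta (Ki hF n i) a = -1 :=
  eta_neg (odd_card_Ki h2 i) fun ⟨b, hb⟩ => h b b.2 (congrArg Subtype.val hb)

/-- **the element of the torus** -/
theorem exists_t (h2 : ringChar F ≠ 2) (hn : 2 ≤ n) : ∃ (g : GJ hF n) (hg : g ∈ TG hF n), (∃ s, iota s = g) ∧
    ∏ i, eta (Ki hF n i) (aU hF n i ⟨g, hg⟩) = -1 := by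
  classical
  have hq := odd_q hF h2
  have hqpos := q_pos hF
  obtain ⟨ν, hν⟩ := FiniteField.exists_nonsquare h2
  have hν0 : ν ≠ 0 := by
    rintro rfl
    exact hν ⟨0, by rw [mul_zero]⟩
  have hνq : ν ^ q ≠ 0 := pow_ne_zero _ hν0
  have hqq : (ν ^ q) ^ q = ν := pow_qq hF ν
  by_cases hne : Even n
  · -- odd dimension
    have hn2 := Nat.even_iff.1 hne
    have hmi : ((mi n : Fin (n + 1)) : ℕ) = n / 2 := mi_val n
    obtain ⟨d, hd⟩ : ∃ d : Fin (n + 1) → F, ∀ x, d x = (if x = 0 then ν else 1) *
      (if x = Fin.last n then (ν ^ q)⁻¹ else 1) * (if x = mi n then ν ^ (q - 1) else 1) := ⟨_, fun _ => rfl⟩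
    have hz : ν ^ (q - 1) * ν = ν ^ q := by
      rw [← pow_succ]
      congr 1
      omega
    have hz1 : ν ^ (q - 1) * (ν ^ (q - 1)) ^ q = 1 := by
      have h3 : ν ^ (q - 1) = ν ^ q * ν⁻¹ := by rw [← hz, mul_inv_cancel_right₀ hν0]
      rw [h3, mul_pow, inv_pow, hqq]
      field_simp
    have h0l : (0 : Fin (n + 1)) ≠ Fin.last n := by
      intro h
      have := congrArg Fin.val h
      rw [Fin.val_last] at this
      have h' : (0 : ℕ) = n := this
      omega
    have h0m : (0 : Fin (n + 1)) ≠ mi n := by
      intro h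
      have := congrArg Fin.val h
      rw [hmi] at this
      have h' : (0 : ℕ) = n / 2 := this
      omega
    have hlm : Fin.last n ≠ mi n := by
      intro h
      have := congrArg Fin.val h
      rw [hmi, Fin.val_last] at this
      omega
    have hd0 : d 0 = ν := by rw [hd, if_pos rfl, if_neg h0l, if_neg h0m, mul_one, mul_one]
    have hdl : d (Fin.last n) = (ν ^ q)⁻¹ := by
      rw [hd, if_neg h0l.symm, if_pos rfl, if_neg hlm, mul_one, one_mul]
    have hdm : d (mi n) = ν ^ (q - 1) := by
      rw [hd, if_neg h0m.symm, if_neg hlm.symm, if_pos rfl, one_mul, one_mul]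
    have hdo : ∀ x, x ≠ 0 → x ≠ Fin.last n → x ≠ mi n → d x = 1 := by
      intro x h1 h3 h4
      rw [hd, if_neg h1, if_neg h3, if_neg h4, one_mul, one_mul]
    have hdu : ∀ x, d x * (d x.rev) ^ q = 1 := by
      intro x
      by_cases h1 : x = 0
      · rw [h1, hd0, Fin.rev_zero, hdl, inv_pow, hqq, mul_inv_cancel₀ hν0]
      by_cases h3 : x = Fin.last n
      · rw [h3, hdl, Fin.rev_last, hd0, inv_mul_cancel₀ hνq]
      by_cases h4 : x = mi n
      · rw [h4, mid_rev hne, hdm]
        exact hz1
      · rw [hdo x h1 h3 h4, hdo x.rev, one_pow, mul_one]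
        · intro h
          apply h3
          rw [← Fin.rev_rev x, h, Fin.rev_zero]
        · intro h
          apply h1
          rw [← Fin.rev_rev x, h, Fin.rev_last]
        · intro h
          apply h4
          rw [← Fin.rev_rev x, h, mid_rev hne]
    obtain ⟨g, hg, hgd⟩ := exists_diag (hF := hF) d hdu
    refine ⟨g, hg, mem_iota_of_diag hg ?_, ?_⟩
    · rw [Finset.prod_congr rfl fun x _ => (hgd x).trans (hd x), Finset.prod_mul_distrib, Finset.prod_mul_distrib,
        Finset.prod_ite_eq', Finset.prod_ite_eq', Finset.prod_ite_eq', if_pos (Finset.mem_univ _),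
        if_pos (Finset.mem_univ _), if_pos (Finset.mem_univ _)]
      rw [← hz]
      have := pow_ne_zero (q - 1) hν0
      field_simp
    · have hval : ∀ i, ((aU hF n i ⟨g, hg⟩ : Ki hF n i) : F) = (if (i : ℕ) = 0 then ν else 1) /
          (if (i : ℕ) + 1 = n / 2 then ν ^ (q - 1) else 1) := by
        intro i
        have hi := i.2
        rw [aU_val]
        change g.1.1 (ix i) (ix i) / g.1.1 (iy i) (iy i) = _
        have hix : ((ix i : Fin (n + 1)) : ℕ) = i := rfl
        have hiy : ((iy i : Fin (n + 1)) : ℕ) = i + 1 := rfl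
        rw [hgd, hgd]
        congr 1
        · by_cases h1 : (i : ℕ) = 0
          · rw [if_pos h1, show ix i = 0 from Fin.ext h1, hd0]
          · rw [if_neg h1, hdo]
            · intro h; exact h1 (congrArg Fin.val h)
            · intro h
              have := congrArg Fin.val h
              rw [Fin.val_last, hix] at this
              omega
            · intro h
              have := congrArg Fin.val h
              rw [hmi, hix] at this
              omega
        · by_cases h1 : (i : ℕ) + 1 = n / 2
          · rw [if_pos h1, show iy i = mi n from Fin.ext (hiy.trans (h1.trans hmi.symm)), hdm]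
          · rw [if_neg h1, hdo]
            · intro h
              have := congrArg Fin.val h
              rw [hiy] at this
              exact Nat.succ_ne_zero _ this
            · intro h
              have := congrArg Fin.val h
              rw [Fin.val_last, hiy] at this
              omega
            · intro h
              have := congrArg Fin.val h
              rw [hmi, hiy] at this
              exact h1 this
      have hK : ∀ (i : Fin ((n + 1) / 2)) (b : F), b ∈ Ki hF n i := fun i b h => by omega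
      -- the denominator is a square
      have hden : ∀ i : Fin ((n + 1) / 2), ∃ s : F, s ≠ 0 ∧
          (if (i : ℕ) + 1 = n / 2 then ν ^ (q - 1) else 1) = s * s := by
        intro i
        split_ifs
        · refine ⟨ν ^ ((q - 1) / 2), pow_ne_zero _ hν0, ?_⟩
          rw [← pow_add]
          congr 1
          omega
        · exact ⟨1, one_ne_zero, by rw [one_mul]⟩
      have h0 : 0 < (n + 1) / 2 := by omega
      rw [Finset.prod_eq_single ⟨0, h0⟩]
      · refine eta_neg_one h2 _ fun b _ hb => hν ?_
        obtain ⟨s, hs0, hs⟩ := hden ⟨0, h0⟩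
        rw [hval, if_pos rfl, hs, div_eq_iff (mul_ne_zero hs0 hs0)] at hb
        exact ⟨b * s, by rw [hb]; ring⟩
      · intro i _ hi
        obtain ⟨s, hs0, hs⟩ := hden i
        refine eta_one _ s⁻¹ (hK _ _) ?_
        rw [hval, if_neg (fun h => hi (Fin.ext h)), hs, one_div, mul_inv]
      · intro h; exact absurd (Finset.mem_univ _) h
  · -- even dimension
    have hn2 : n % 2 = 1 := by
      rcases Nat.mod_two_eq_zero_or_one n with h | h
      · exact absurd (Nat.even_iff.2 h) hne
      · exact h
    have hn3 : 3 ≤ n := by omega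
    obtain ⟨o, ho⟩ : ∃ o : Fin (n + 1), (o : ℕ) = 1 := ⟨⟨1, by omega⟩, rfl⟩
    have hor : ((o.rev : Fin (n + 1)) : ℕ) = n - 1 := by
      rw [Fin.val_rev, ho]
      omega
    obtain ⟨d, hd⟩ : ∃ d : Fin (n + 1) → F, ∀ x, d x = (if x = 0 then ν else 1) * (if x = o then ν⁻¹ else 1) *
      (if x = o.rev then ν ^ q else 1) * (if x = Fin.last n then (ν ^ q)⁻¹ else 1) := ⟨_, fun _ => rfl⟩
    have h0l : (0 : Fin (n + 1)) ≠ Fin.last n := by
      intro h
      have := congrArg Fin.val h
      rw [Fin.val_last] at this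
      have h' : (0 : ℕ) = n := this
      omega
    have h0o : (0 : Fin (n + 1)) ≠ o := by
      intro h
      have := congrArg Fin.val h
      rw [ho] at this
      exact zero_ne_one this
    have h0r : (0 : Fin (n + 1)) ≠ o.rev := by
      intro h
      have := congrArg Fin.val h
      rw [hor] at this
      have h' : (0 : ℕ) = n - 1 := this
      omega
    have hor' : o ≠ o.rev := by
      intro h
      have := congrArg Fin.val h
      rw [hor, ho] at this
      omega
    have hol : o ≠ Fin.last n := by
      intro h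
      have := congrArg Fin.val h
      rw [ho, Fin.val_last] at this
      omega
    have hrl : o.rev ≠ Fin.last n := by
      intro h
      have := congrArg Fin.val h
      rw [hor, Fin.val_last] at this
      omega
    have hd0 : d 0 = ν := by
      rw [hd, if_pos rfl, if_neg h0o, if_neg h0r, if_neg h0l, mul_one, mul_one, mul_one]
    have hdo1 : d o = ν⁻¹ := by
      rw [hd, if_neg h0o.symm, if_pos rfl, if_neg hor', if_neg hol, mul_one, mul_one, one_mul]
    have hdr : d o.rev = ν ^ q := by
      rw [hd, if_neg h0r.symm, if_neg hor'.symm, if_pos rfl, if_neg hrl, mul_one, one_mul, one_mul]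
    have hdl : d (Fin.last n) = (ν ^ q)⁻¹ := by
      rw [hd, if_neg h0l.symm, if_neg hol.symm, if_neg hrl.symm, if_pos rfl, one_mul, one_mul, one_mul]
    have hdo : ∀ x, x ≠ 0 → x ≠ o → x ≠ o.rev → x ≠ Fin.last n → d x = 1 := by
      intro x h1 h3 h4 h5
      rw [hd, if_neg h1, if_neg h3, if_neg h4, if_neg h5, one_mul, one_mul, one_mul]
    have hdu : ∀ x, d x * (d x.rev) ^ q = 1 := by
      intro x
      by_cases h1 : x = 0
      · rw [h1, hd0, Fin.rev_zero, hdl, inv_pow, hqq, mul_inv_cancel₀ hν0]
      by_cases h3 : x = o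
      · rw [h3, hdo1, hdr, hqq, inv_mul_cancel₀ hν0]
      by_cases h4 : x = o.rev
      · rw [h4, hdr, Fin.rev_rev, hdo1, inv_pow, mul_inv_cancel₀ hνq]
      by_cases h5 : x = Fin.last n
      · rw [h5, hdl, Fin.rev_last, hd0, inv_mul_cancel₀ hνq]
      · rw [hdo x h1 h3 h4 h5, hdo x.rev, one_pow, mul_one]
        · intro h
          apply h5
          rw [← Fin.rev_rev x, h, Fin.rev_zero]
        · intro h
          apply h4
          rw [← Fin.rev_rev x, h]
        · intro h
          apply h3
          rw [← Fin.rev_rev x, h, Fin.rev_rev]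
        · intro h
          apply h1
          rw [← Fin.rev_rev x, h, Fin.rev_last]
    obtain ⟨g, hg, hgd⟩ := exists_diag (hF := hF) d hdu
    refine ⟨g, hg, mem_iota_of_diag hg ?_, ?_⟩
    · rw [Finset.prod_congr rfl fun x _ => (hgd x).trans (hd x), Finset.prod_mul_distrib, Finset.prod_mul_distrib,
        Finset.prod_mul_distrib, Finset.prod_ite_eq', Finset.prod_ite_eq', Finset.prod_ite_eq', Finset.prod_ite_eq',
        if_pos (Finset.mem_univ _), if_pos (Finset.mem_univ _), if_pos (Finset.mem_univ _),
        if_pos (Finset.mem_univ _), mul_inv_cancel₀ hν0, one_mul, mul_inv_cancel₀ hνq]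
    · have hval : ∀ i, ((aU hF n i ⟨g, hg⟩ : Ki hF n i) : F) =
          (if (i : ℕ) = 0 then ν else if (i : ℕ) = 1 then ν⁻¹ else 1) /
          (if (i : ℕ) = 0 then ν⁻¹ else if (i : ℕ) + 1 = n - 1 then ν ^ q else 1) := by
        intro i
        have hi := i.2
        rw [aU_val]
        change g.1.1 (ix i) (ix i) / g.1.1 (iy i) (iy i) = _
        have hix : ((ix i : Fin (n + 1)) : ℕ) = i := rfl
        have hiy : ((iy i : Fin (n + 1)) : ℕ) = i + 1 := rfl
        rw [hgd, hgd]
        congr 1
        · by_cases h1 : (i : ℕ) = 0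
          · rw [if_pos h1, show ix i = 0 from Fin.ext h1, hd0]
          by_cases h3 : (i : ℕ) = 1
          · rw [if_neg h1, if_pos h3, show ix i = o from Fin.ext (hix.trans (h3.trans ho.symm)), hdo1]
          · rw [if_neg h1, if_neg h3, hdo]
            · intro h; exact h1 (congrArg Fin.val h)
            · intro h
              have := congrArg Fin.val h
              rw [ho, hix] at this
              exact h3 this
            · intro h
              have := congrArg Fin.val h
              rw [hor, hix] at this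
              omega
            · intro h
              have := congrArg Fin.val h
              rw [Fin.val_last, hix] at this
              omega
        · by_cases h1 : (i : ℕ) = 0
          · rw [if_pos h1, show iy i = o from Fin.ext (by rw [hiy, h1, ho]), hdo1]
          by_cases h3 : (i : ℕ) + 1 = n - 1
          · rw [if_neg h1, if_pos h3, show iy i = o.rev from Fin.ext (hiy.trans (h3.trans hor.symm)), hdr]
          · rw [if_neg h1, if_neg h3, hdo]
            · intro h
              have := congrArg Fin.val h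
              rw [hiy] at this
              exact Nat.succ_ne_zero _ this
            · intro h
              have := congrArg Fin.val h
              rw [ho, hiy] at this
              omega
            · intro h
              have := congrArg Fin.val h
              rw [hor, hiy] at this
              exact h3 this
            · intro h
              have := congrArg Fin.val h
              rw [Fin.val_last, hiy] at this
              omega
      have h1 : 1 < (n + 1) / 2 := by omega
      rw [Finset.prod_eq_single ⟨1, h1⟩]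
      · refine eta_neg_one h2 _ fun b hbK hb => hν ?_
        rw [hval, if_neg one_ne_zero, if_pos rfl, if_neg one_ne_zero] at hb
        change ν⁻¹ / (if 1 + 1 = n - 1 then ν ^ q else 1) = b * b at hb
        by_cases h3 : 1 + 1 = n - 1
        · rw [if_pos h3] at hb
          have hb0 : b ≠ 0 := by
            rintro rfl
            rw [mul_zero, div_eq_zero_iff] at hb
            rcases hb with hb | hb
            · exact inv_ne_zero hν0 hb
            · exact hνq hb
          have hbq : b ^ q = b := hbK (by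
            change 2 * 1 + 2 = n + 1
            omega)
          rw [FiniteField.isSquare_iff h2 hν0]
          obtain ⟨k, hk⟩ : ∃ k, q = 2 * k + 1 := ⟨q / 2, by omega⟩
          have h4 : Fintype.card F / 2 = (q + 1) * k := by
            rw [hF, hk]
            have : (2 * k + 1) ^ 2 = 2 * ((2 * k + 1 + 1) * k) + 1 := by ring
            rw [this]
            omega
          have h5 : b ^ (2 * k) = 1 := by
            have h6 : b ^ (2 * k) * b = b := by rw [← pow_succ, ← hk, hbq]
            exact mul_eq_right₀ hb0 |>.1 h6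
          have h6 : ν ^ (q + 1) = (b * b)⁻¹ := by
            rw [← hb, pow_succ]
            field_simp
          rw [h4, pow_mul, h6, inv_pow, ← sq, ← pow_mul, h5, inv_one]
        · rw [if_neg h3, div_one] at hb
          exact ⟨b⁻¹, by rw [← mul_inv, ← hb, inv_inv]⟩
      · intro i _ hi
        have hi2 := i.2
        have hi1 : (i : ℕ) ≠ 1 := fun h => hi (Fin.ext h)
        by_cases h0 : (i : ℕ) = 0
        · refine eta_one _ ν (fun h => by omega) ?_
          rw [hval, if_pos h0, if_pos h0, div_inv_eq_mul]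
        · refine eta_one _ 1 (one_mem _) ?_
          rw [hval, if_neg h0, if_neg hi1, if_neg h0, if_neg (by omega), div_one, one_mul]
      · intro h; exact absurd (Finset.mem_univ _) h

end

/-- **the row of `PSU` in its own odd characteristic** -/
theorem rowA_psu {p : ℕ} [hp : Fact p.Prime] (hp2 : p ≠ 2) {F : Type} [Field F] [Fintype F] [CharP F p] {N q : ℕ}
    (hF : Fintype.card F = q ^ 2) (hN : 3 ≤ N) (X : Type) [Group X] [Fintype X] [IsSimpleGroup X]
    (hna : ¬ IsMulCommutative X) (hX : IsLieTypeChar p X) (e : X ≃* PSU N F q) : RowA p X := by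
  classical
  obtain ⟨n, rfl⟩ : ∃ n, N = n + 1 := ⟨N - 1, by omega⟩
  have hn : 2 ≤ n := by omega
  have h2 : ringChar F ≠ 2 := by
    rw [ringChar.eq F p]
    exact hp2
  obtain ⟨U⟩ := exists_UB (hF := hF) (n := n)
  have hSn := normal_qU U
  have hfin : Finite (GL (Fin (n + 1)) F) := inferInstance
  let e2 : X ≃* ↥(qU U).range := e.trans (psuEquiv U hn)
  have : Fintype ↥(qU U).range := Fintype.ofFinite _
  have hs : IsSimpleGroup ↥(qU U).range := e2.symm.isSimpleGroup
  refine H776.CY.RowA.congr e2 ?_
  have hna2 : ¬ IsMulCommutative ↥(qU U).range := by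
    intro h
    apply hna
    refine ⟨⟨fun a b => e2.injective ?_⟩⟩
    rw [map_mul, map_mul]
    exact h.is_comm.comm _ _
  have hL : IsLieTypeChar p ↥(qU U).range := OddHalf.Known.isLieTypeChar_congr e2 hX
  obtain ⟨g, hg, ⟨s, hsg⟩, hpr⟩ := exists_t (hF := hF) h2 hn
  have ht : pgu hF n g ∈ (TG hF n).map (pgu hF n) := Subgroup.mem_map_of_mem _ hg
  refine H661.OC.rowA_frame (rgdP U (p := p)) (adjP U p) (GGP_eq_top U hn) (rigidP U p) (multOneU U hp2) (hNP U p)
    (UU_le_qU U) hna2 (fun a ha hQ => S4613.result p hL a ha hQ.choose hQ.choose_spec) (fun i => odd_card_Ki h2 i)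
    (t := pgu hF n g) ht ?_ ?_
  · rw [range_qU]
    exact ⟨g, ⟨s, hsg⟩, rfl⟩
  · rw [← hpr]
    refine Finset.prod_congr rfl fun i _ => ?_
    congr 1
    exact quotD_a (kerU U) (rgdG U (p := p)) i ⟨g, hg⟩ ht

/-- the form of the dispatcher (helper690) -/
theorem rowForA_psu {p : ℕ} [hp : Fact p.Prime] (hp2 : p ≠ 2) :
    RowForA p (fun X _ => ∃ (F : Type) (_ : Field F) (_ : Fintype F) (_ : CharP F p) (n q : ℕ),
      Fintype.card F = q ^ 2 ∧ 3 ≤ n ∧ Nonempty (X ≃* PSU n F q)) := by
  rintro X _ _ _ hna - ⟨F, i1, i2, i3, N, q, hF, hN, ⟨e⟩⟩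
  refine rowA_psu hp2 hF hN X hna (Or.inr (Or.inr (Or.inl ⟨F, i1, i2, i3, N, q, hF, hN, ?_, ⟨e⟩⟩))) e
  intro h
  have h3 : p ∣ Fintype.card F := by
    obtain ⟨m, -, hm⟩ := FiniteField.card F p
    rw [hm]
    exact dvd_pow_self p m.ne_zero
  rw [hF] at h3
  have h4 := hp.out.dvd_of_dvd_pow h3
  have h5 : q = 2 := h.2
  rw [h5] at h4
  exact hp2 ((Nat.prime_dvd_prime_iff_eq hp.out Nat.prime_two).1 h4)

end Cfsg.Agent.H356.CY
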